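import Mathlib.RingTheory.Unramified.LocalRing
import Mathlib.RingTheory.Unramified.Locus
import Mathlib.RingTheory.Unramified.LocalStructure
import Mathlib.RingTheory.AdicCompletion.LocalRing
import Mathlib.RingTheory.AdicCompletion.AsTensorProduct
import Mathlib.RingTheory.Flat.FaithfullyFlat.Algebra
import Groth.Agent.S5035

/-!
# Algebraic elements of the completion of a henselian ring

A finitely generated subalgebra of the completion of a henselian Noetherian local ring whose closed
fibre is unramified at the origin lies in the ring itself.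
-/

set_option autoImplicit false

universe u

open IsLocalRing

noncomputable section

namespace Groth.Agent.CplHom

variable {A : Type u} [CommRing A] [HenselianLocalRing A]

/-- A finite type algebra with a point in a local algebra with the same residue field, unramified on the
closed fibre, has that point defined over the henselian ring. -/
theorem range_le_of_unramified_fibre {L : Type u} [CommRing L] [IsLocalRing L] [Algebra A L]
    [IsLocalHom (algebraMap A L)] (hres : Function.Surjective ((residue L).comp (algebraMap A L)))
    {R : Type u} [CommRing R] [Algebra A R] [Algebra.FiniteType A R] (ι : R →ₐ[A] L)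
    (hΩ : (Ideal.map (algebraMap A R) (maximalIdeal A)) • (⊤ : Submodule R Ω[R⁄A]) = ⊤) (r : R) :
    ∃ a : A, algebraMap A L a = ι r := by
  let q : Ideal R := (maximalIdeal L).comap ι
  have hq : q.IsPrime := Ideal.comap_isPrime _ _
  have hmA : (maximalIdeal L).comap (algebraMap A L) = maximalIdeal A :=
    ((local_hom_TFAE (algebraMap A L)).out 0 4).mp ‹_›
  have hover : q.LiesOver (maximalIdeal A) := ⟨by
    rw [← hmA]
    ext a
    simp [q, Ideal.under, ι.commutes]⟩
  have hle : Ideal.map (algebraMap A R) (maximalIdeal A) ≤ q :=
    Ideal.map_le_iff_le_comap.mpr (le_of_eq hover.over)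
  -- unramified at `q`
  have hΩq : (⊤ : Submodule R Ω[R⁄A]) ≤ q • ⊤ := by
    conv_lhs => rw [← hΩ]
    exact Submodule.smul_mono_left hle
  obtain ⟨c, hc1, hc⟩ := Submodule.exists_sub_one_mem_and_smul_eq_zero_of_fg_of_le_smul q
    (⊤ : Submodule R Ω[R⁄A]) Module.Finite.fg_top hΩq
  have hcq : c ∉ q := fun h => hq.ne_top (q.eq_top_iff_one.mpr (by simpa using q.sub_mem h hc1))
  have hu : Algebra.IsUnramifiedAt A q := by
    have h : (⟨q, hq⟩ : PrimeSpectrum R) ∈ Algebra.unramifiedLocus A R := by
      rw [Algebra.unramifiedLocus_eq_compl_support, Set.mem_compl_iff, Module.notMem_support_iff']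
      exact fun m => ⟨c, hcq, hc m trivial⟩
    exact h
  let Rq := Localization.AtPrime q
  have : Algebra.EssFiniteType R Rq := Algebra.EssFiniteType.of_isLocalization Rq q.primeCompl
  have : Algebra.EssFiniteType A Rq := Algebra.EssFiniteType.comp A R Rq
  have : Algebra.FormallyUnramified A Rq := hu
  have hqf : Algebra.QuasiFiniteAt A q := inferInstanceAs (Algebra.QuasiFinite A Rq)
  have : Module.Finite A Rq := (Groth.Agent.S5035.result A).mp inferInstance R q hover hqf
  have : IsLocalHom (algebraMap A Rq) := by
    refine ((local_hom_TFAE (algebraMap A Rq)).out 0 4).mpr ?_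
    rw [IsScalarTower.algebraMap_eq A R Rq, ← Ideal.comap_comap]
    refine (congrArg (Ideal.comap (algebraMap A R)) Localization.AtPrime.under_maximalIdeal).trans ?_
    exact hover.over.symm
  -- the point on the localisation
  let g : Rq →ₐ[A] L := IsLocalization.liftAlgHom (M := q.primeCompl) (f := ι) fun y => by
    have : ι (y : R) ∉ maximalIdeal L := y.2
    simpa using this
  have hg : ∀ x : R, g (algebraMap R Rq x) = ι x := fun x => by simp [g, IsLocalization.lift_eq]
  have : IsLocalHom g.toRingHom := by
    refine ((local_hom_TFAE g.toRingHom).out 0 2).mpr ?_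
    rw [Localization.AtPrime.map_eq_maximalIdeal.symm, Ideal.map_map, Ideal.map_le_iff_le_comap]
    intro x hx
    show g (algebraMap R Rq x) ∈ maximalIdeal L
    rw [hg]
    exact hx
  -- surjectivity of `A → Rq`
  have hsur : (⊤ : Submodule A Rq) ≤ LinearMap.range (Algebra.linearMap A Rq) := by
    refine Submodule.le_of_le_smul_of_le_jacobson_bot (I := maximalIdeal A) Module.Finite.fg_top
      (maximalIdeal_le_jacobson _) fun x _ => ?_
    obtain ⟨a, ha⟩ := hres (residue L (g x))
    have hx : x - algebraMap A Rq a ∈ maximalIdeal Rq := by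
      rw [mem_maximalIdeal, mem_nonunits_iff]
      intro hu
      have h1 := hu.map g
      rw [map_sub, g.commutes] at h1
      exact (mem_maximalIdeal _).mp ((Ideal.Quotient.eq).mp ha.symm) h1
    rw [Submodule.mem_sup]
    refine ⟨algebraMap A Rq a, ⟨a, rfl⟩, x - algebraMap A Rq a, ?_, by abel⟩
    rw [Ideal.smul_top_eq_map, Submodule.restrictScalars_mem, Algebra.FormallyUnramified.map_maximalIdeal]
    exact hx
  obtain ⟨a, ha⟩ := hsur (Submodule.mem_top (x := algebraMap R Rq r))
  refine ⟨a, ?_⟩
  have ha' : algebraMap A Rq a = algebraMap R Rq r := ha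
  rw [← g.commutes, ha', hg]

section Completion

variable (A) [IsNoetherianRing A]

theorem residue_completion_surjective :
    Function.Surjective ((residue (AdicCompletion (maximalIdeal A) A)).comp
      (algebraMap A (AdicCompletion (maximalIdeal A) A))) := by
  intro y
  obtain ⟨x, hx⟩ := (AdicCompletion.residueField_map_bijective_of_fg (R := A)
    (maximalIdeal A).fg_of_isNoetherianRing).2 y
  obtain ⟨a, rfl⟩ := residue_surjective x
  exact ⟨a, (ResidueField.map_residue _ _).symm.trans hx⟩

theorem faithfullyFlat_completion : Module.FaithfullyFlat A (AdicCompletion (maximalIdeal A) A) := by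
  have : Module.Flat A (AdicCompletion (maximalIdeal A) A) := AdicCompletion.flat_of_isNoetherian _
  exact Module.FaithfullyFlat.of_flat_of_isLocalHom

end Completion

end Groth.Agent.CplHom
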