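import Mathlib.RingTheory.Kaehler.Basic

/-!
# Differentials killed by a rigidity condition on the closed fibre
-/

set_option autoImplicit false

universe u

open TensorProduct

noncomputable section

namespace Groth.Agent.CplHom

variable {A : Type u} [CommRing A] {R : Type u} [CommRing R] [Algebra A R] (I : Ideal A)

/-- If two maps out of `R` into an `A/I`-algebra which agree modulo a square zero ideal are equal, then
`I` generates the differentials. -/
theorem smul_kaehler_eq_top
    (h : ∀ (W : Type u) [CommRing W] [Algebra A W] (J : Ideal W), I ≤ RingHom.ker (algebraMap A W) → J ^ 2 = ⊥ →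
      ∀ f₁ f₂ : R →ₐ[A] W, (∀ r, f₁ r - f₂ r ∈ J) → f₁ = f₂) :
    (I.map (algebraMap A R)) • (⊤ : Submodule R Ω[R⁄A]) = ⊤ := by
  let T := R ⊗[A] R
  let J : Ideal T := KaehlerDifferential.ideal A R
  let K : Ideal T := I.map (algebraMap A T) ⊔ J ^ 2
  let π : T →ₐ[A] T ⧸ K := Ideal.Quotient.mkₐ A K
  have hker : I ≤ RingHom.ker (algebraMap A (T ⧸ K)) := fun a ha => by
    rw [RingHom.mem_ker, IsScalarTower.algebraMap_apply A T (T ⧸ K)]
    exact Ideal.Quotient.eq_zero_iff_mem.mpr (Submodule.mem_sup_left (Ideal.mem_map_of_mem _ ha))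
  have hsq : (J.map π) ^ 2 = ⊥ := by
    rw [← Ideal.map_pow, _root_.eq_bot_iff, Ideal.map_le_iff_le_comap]
    exact fun x hx => Ideal.Quotient.eq_zero_iff_mem.mpr (Submodule.mem_sup_right hx)
  have he := h (T ⧸ K) (J.map π) hker hsq (π.comp Algebra.TensorProduct.includeRight)
    (π.comp ((Algebra.TensorProduct.includeLeft : R →ₐ[A] T))) fun r => by
      simp only [AlgHom.comp_apply, ← map_sub]
      exact Ideal.mem_map_of_mem π (KaehlerDifferential.one_smul_sub_smul_one_mem_ideal A r)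
  rw [_root_.eq_top_iff]
  conv_lhs => rw [← KaehlerDifferential.span_range_derivation]
  rw [Submodule.span_le]
  rintro _ ⟨r, rfl⟩
  have hr : (1 : R) ⊗ₜ[A] r - r ⊗ₜ[A] (1 : R) ∈ K := by
    have e := DFunLike.congr_fun he r
    exact (Ideal.Quotient.eq).mp e
  obtain ⟨z, hz, y, hy, hzy⟩ := Submodule.mem_sup.mp hr
  -- move `z` into the ideal of the diagonal
  let μ : T →ₐ[A] R := Algebra.TensorProduct.lmul' A
  let ρ : T →ₗ[A] T := LinearMap.id -
    (Algebra.TensorProduct.includeLeft : R →ₐ[A] T).toLinearMap ∘ₗ μ.toLinearMap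
  have hρ : ∀ w, ρ w ∈ J := fun w => by
    show μ (w - (μ w) ⊗ₜ[A] (1 : R)) = 0
    rw [map_sub, show μ ((μ w) ⊗ₜ[A] (1 : R)) = μ w from (Algebra.TensorProduct.lmul'_apply_tmul (μ w) 1).trans (mul_one _), sub_self]
  have hz' : z ∈ I • (⊤ : Submodule A T) := by
    rw [Ideal.smul_top_eq_map, Submodule.restrictScalars_mem]; exact hz
  have hρz : ρ z = z := by
    have hd : (1 : R) ⊗ₜ[A] r - r ⊗ₜ[A] (1 : R) ∈ J := KaehlerDifferential.one_smul_sub_smul_one_mem_ideal A r
    have hzJ : z ∈ J := by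
      rw [eq_sub_of_add_eq hzy]; exact J.sub_mem hd (Ideal.pow_le_self two_ne_zero hy)
    have : μ z = 0 := hzJ
    show z - (μ z) ⊗ₜ[A] (1 : R) = z
    rw [this, TensorProduct.zero_tmul, sub_zero]
  let ρ' : T →ₗ[A] (J.restrictScalars A : Submodule A T) := ρ.codRestrict _ hρ
  have hρ' : ρ' z ∈ I • (⊤ : Submodule A (J.restrictScalars A : Submodule A T)) := by
    refine Submodule.smul_mono (le_refl I) (le_top (a := Submodule.map ρ' ⊤)) ?_
    rw [← Submodule.map_smul'']
    exact Submodule.mem_map_of_mem hz'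
  let τ : (J.restrictScalars A : Submodule A T) →ₗ[A] Ω[R⁄A] :=
    { toFun := fun x => J.toCotangent ⟨x.1, x.2⟩
      map_add' := fun x y => map_add J.toCotangent ⟨x.1, x.2⟩ ⟨y.1, y.2⟩
      map_smul' := fun a x => by
        exact (LinearMap.map_smul_of_tower J.toCotangent a (⟨x.1, x.2⟩ : J) : _) }
  have hτ : τ (ρ' z) ∈ I • (⊤ : Submodule A Ω[R⁄A]) := by
    refine Submodule.smul_mono (le_refl I) (le_top (a := Submodule.map τ ⊤)) ?_
    rw [← Submodule.map_smul'']
    exact Submodule.mem_map_of_mem hρ'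
  have hD : KaehlerDifferential.D A R r = τ (ρ' z) := by
    rw [KaehlerDifferential.D_apply]
    refine (Ideal.toCotangent_eq _).mpr ?_
    show _ - ρ z ∈ J ^ 2
    rw [hρz, sub_eq_of_eq_add' hzy.symm]
    exact hy
  rw [SetLike.mem_coe, hD]
  refine Submodule.smul_induction_on hτ (fun a ha m _ => ?_) fun _ _ => Submodule.add_mem _
  rw [← algebraMap_smul R a m]
  exact Submodule.smul_mem_smul (Ideal.mem_map_of_mem _ ha) Submodule.mem_top

end Groth.Agent.CplHom
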