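import Groth.Agent.S0585
import Groth.Agent.MultTypeLib.MultNil
import Groth.Agent.MultTypeLib.Rigid
import Groth.Agent.MultTypeLib.LocalCriteria
import Groth.Agent.CplHom.Descend
import Groth.Agent.CplHom.Fibre

/-!
# Homomorphisms out of groups of multiplicative type descend from the completion
-/

set_option autoImplicit false

universe u

set_option backward.isDefEq.respectTransparency false
set_option backward.isDefEq.respectTransparency.types false

open TensorProduct WithConv Coalgebra Bialgebra IsLocalRing

noncomputable section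

namespace Groth.Agent.CplHom

open Groth.Agent.MultTypeLib

variable {A : Type u} [CommRing A]

section Coordinates

variable {B : Type u} [CommRing B] [Algebra A B] (s : B →ₗ[A] B →₀ A)

/-- The coordinate of an element of `S ⊗ B` at the index `b`. -/
def coord (S : Type u) [CommRing S] [Algebra A S] (b : B) : S ⊗[A] B →ₗ[A] S :=
  (TensorProduct.rid A S).toLinearMap ∘ₗ LinearMap.lTensor S (Finsupp.lapply b ∘ₗ s)

theorem coord_tmul (S : Type u) [CommRing S] [Algebra A S] (b : B) (l : S) (x : B) :
    coord s S b (l ⊗ₜ x) = s x b • l := by simp [coord]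

theorem coord_natural {S S' : Type u} [CommRing S] [Algebra A S] [CommRing S'] [Algebra A S'] (f : S →ₐ[A] S')
    (b : B) (z : S ⊗[A] B) :
    coord s S' b (Algebra.TensorProduct.map f (AlgHom.id A B) z) = f (coord s S b z) := by
  induction z using TensorProduct.induction_on with
  | zero => simp
  | add x y hx hy => simp only [map_add, hx, hy]
  | tmul l x => simp [coord_tmul]

theorem exists_finset_sum (hs : ∀ x, Finsupp.linearCombination A (id : B → B) (s x) = x)
    {S : Type u} [CommRing S] [Algebra A S] (z : S ⊗[A] B) :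
    ∃ T : Finset B, ∀ T', T ⊆ T' → z = ∑ b ∈ T', coord s S b z ⊗ₜ[A] b := by
  classical
  induction z using TensorProduct.induction_on with
  | zero => exact ⟨∅, fun T _ => by simp⟩
  | add x y hx hy =>
    obtain ⟨T₁, h₁⟩ := hx
    obtain ⟨T₂, h₂⟩ := hy
    refine ⟨T₁ ∪ T₂, fun T hT => ?_⟩
    simp only [map_add, TensorProduct.add_tmul, Finset.sum_add_distrib]
    rw [← h₁ T (Finset.union_subset_left hT), ← h₂ T (Finset.union_subset_right hT)]
  | tmul l x =>
    refine ⟨(s x).support, fun T hT => ?_⟩
    simp only [coord_tmul, TensorProduct.smul_tmul]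
    rw [← TensorProduct.tmul_sum]
    congr 1
    conv_lhs => rw [← hs x]
    rw [Finsupp.linearCombination_apply, Finsupp.sum_of_support_subset _ hT (fun i a => a • id i)
      fun i _ => zero_smul A _]
    rfl

end Coordinates

section Squares

variable {B : Type u} [CommRing B] [HopfAlgebra A B] {R L : Type u} [CommRing R] [Algebra A R] [CommRing L]
  [Algebra A L] [Algebra R L] [IsScalarTower A R L]

theorem distrib_tmul_tmul {S : Type u} [CommRing S] [Algebra A S] (r r' : S) (b b' : B) :
    (AlgebraTensorModule.distribBaseChange A S B B) ((r * r') ⊗ₜ (b ⊗ₜ b')) = (r ⊗ₜ b) ⊗ₜ[S] (r' ⊗ₜ b') := by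
  have e : ∀ t : S, (t ⊗ₜ[A] b' : S ⊗[A] B) = t • ((1 : S) ⊗ₜ b') := fun t => by
    rw [TensorProduct.smul_tmul', smul_eq_mul, mul_one]
  rw [e r', TensorProduct.tmul_smul, TensorProduct.smul_tmul', TensorProduct.smul_tmul', smul_eq_mul, mul_comm r']
  simp [AlgebraTensorModule.distribBaseChange]

theorem sq_injective [Module.Flat A B] (hinj : Function.Injective (algebraMap R L))
    (f : R ⊗[A] B →ₐ[R] L ⊗[A] B) (hf : ∀ r b, f (r ⊗ₜ b) = algebraMap R L r ⊗ₜ b) :
    Function.Injective (sq L f) := by
  let jj : (R ⊗[A] B) ⊗[R] (R ⊗[A] B) → (L ⊗[A] B) ⊗[L] (L ⊗[A] B) := fun z =>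
    AlgebraTensorModule.distribBaseChange A L B B
      (LinearMap.rTensor (B ⊗[A] B) (IsScalarTower.toAlgHom A R L).toLinearMap
        ((AlgebraTensorModule.distribBaseChange A R B B).symm z))
  have hjj : Function.Injective jj :=
    (AlgebraTensorModule.distribBaseChange A L B B).injective.comp
      ((Module.Flat.rTensor_preserves_injective_linearMap _ hinj).comp
        (AlgebraTensorModule.distribBaseChange A R B B).symm.injective)
  suffices h : ∀ z, sq L f z = jj z by
    intro x y e
    exact hjj ((h x).symm.trans (e.trans (h y)))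
  intro z
  induction z using TensorProduct.induction_on with
  | zero => simp [jj]
  | add x y hx hy => rw [map_add, hx, hy]; simp only [jj, map_add]
  | tmul x y =>
    induction x using TensorProduct.induction_on with
    | zero => simp [jj]
    | add x₁ x₂ hx hy => rw [TensorProduct.add_tmul, map_add, hx, hy]; simp only [jj, map_add]
    | tmul r b =>
      induction y using TensorProduct.induction_on with
      | zero => simp [jj]
      | add y₁ y₂ hx hy => rw [TensorProduct.tmul_add, map_add, hx, hy]; simp only [jj, map_add]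
      | tmul r' b' =>
        rw [sq_tmul, hf, hf, ← distrib_tmul_tmul]
        show _ = AlgebraTensorModule.distribBaseChange A L B B
          (LinearMap.rTensor (B ⊗[A] B) (IsScalarTower.toAlgHom A R L).toLinearMap
            ((AlgebraTensorModule.distribBaseChange A R B B).symm ((r ⊗ₜ b) ⊗ₜ (r' ⊗ₜ b'))))
        rw [← distrib_tmul_tmul r r' b b', LinearEquiv.symm_apply_apply, LinearMap.rTensor_tmul]
        simp

end Squares

variable [HenselianLocalRing A] {B : Type u} [CommRing B] [HopfAlgebra A B]
  {C : Type u} [CommRing C] [HopfAlgebra A C]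

theorem isMultType_of_ker_le (hs : SGA3b.IsMultType (ResidueField A) (ResidueField A ⊗[A] C))
    (W : Type u) [CommRing W] [Algebra A W] (hW : maximalIdeal A ≤ RingHom.ker (algebraMap A W)) :
    SGA3b.IsMultType W (W ⊗[A] C) := by
  let _ : Algebra (ResidueField A) W :=
    (Ideal.Quotient.lift (maximalIdeal A) (algebraMap A W) fun a ha => hW ha).toAlgebra
  have : IsScalarTower A (ResidueField A) W := IsScalarTower.of_algebraMap_eq fun _ => rfl
  exact isMultType_congr (baseChangeTrans (R := A) (ResidueField A) W C).symm (isMultType_baseChange W hs)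

set_option maxHeartbeats 2000000 in
/-- Homomorphisms defined over a local algebra with the same residue field are defined over a henselian ring. -/
theorem exists_bialgHom_of_same_residueField (hB : SGA3b.IsMultType A B) (hC : Algebra.FiniteType A C)
    (hs : SGA3b.IsMultType (ResidueField A) (ResidueField A ⊗[A] C))
    {L : Type u} [CommRing L] [IsLocalRing L] [Algebra A L] [IsLocalHom (algebraMap A L)]
    [Module.FaithfullyFlat A L] (hres : Function.Surjective ((residue L).comp (algebraMap A L)))
    (φ' : L ⊗[A] C →ₐc[L] L ⊗[A] B) :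
    ∃ φ : C →ₐc[A] B, ∀ c, φ' ((1 : L) ⊗ₜ c) = (1 : L) ⊗ₜ φ c := by
  classical
  -- coordinates on `B`
  obtain ⟨P, hP⟩ := exists_ff_split hB
  have : Module.Free P.S (P.S ⊗[A] B) := Module.Free.of_equiv P.equiv.toLinearEquiv.symm
  have hproj : Module.Projective A B := Groth.Agent.S0585.result A P.S B
  obtain ⟨s, hsec⟩ := Module.projective_def'.mp hproj
  have hs' : ∀ x, Finsupp.linearCombination A (id : B → B) (s x) = x := fun x => LinearMap.congr_fun hsec x
  -- the algebra of coefficients
  obtain ⟨t, ht⟩ := hC.out
  let f : C →ₐ[A] L ⊗[A] B :=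
    ((φ' : L ⊗[A] C →ₐ[L] L ⊗[A] B).restrictScalars A).comp Algebra.TensorProduct.includeRight
  choose T hT using fun c => exists_finset_sum s hs' (f c)
  let G : Finset L := t.biUnion fun g => (T g).image fun b => coord s L b (f g)
  let R : Subalgebra A L := Algebra.adjoin A (G : Set L)
  have : Algebra.FiniteType A R :=
    (Subalgebra.fg_iff_finiteType R).mp (Subalgebra.fg_adjoin_finset G)
  let jB : R ⊗[A] B →ₐ[A] L ⊗[A] B := mA B R.val
  have hjB : Function.Injective jB :=
    Module.Flat.rTensor_preserves_injective_linearMap (M := B) R.val.toLinearMap Subtype.val_injective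
  have hmem : ∀ c, f c ∈ jB.range := fun c => by
    have hle : Algebra.adjoin A (t : Set C) ≤ jB.range.comap f := by
      refine Algebra.adjoin_le fun g hg => ?_
      show f g ∈ jB.range
      rw [hT g (T g) subset_rfl]
      refine Subalgebra.sum_mem _ fun b hb => ?_
      exact ⟨(⟨coord s L b (f g), Algebra.subset_adjoin
        (Finset.mem_biUnion.mpr ⟨g, hg, Finset.mem_image_of_mem _ hb⟩)⟩ : R) ⊗ₜ b, rfl⟩
    exact hle (ht ▸ Algebra.mem_top)
  let ψ : C →ₐ[A] R ⊗[A] B := (AlgEquiv.ofInjective jB hjB).symm.toAlgHom.comp (f.codRestrict jB.range hmem)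
  have hψ : ∀ c, jB (ψ c) = f c := fun c =>
    congrArg Subtype.val ((AlgEquiv.ofInjective jB hjB).apply_symm_apply ⟨f c, hmem c⟩)
  -- `ψ` is semilinear
  let E : SemiBialgHom R L (R ⊗[A] B) (L ⊗[A] B) := (SemiBialgHom.baseChange A L B).extendSemi (S := R)
  have hE : ∀ z, E.toAlgHom z = jB z := fun z => by
    induction z using TensorProduct.induction_on with
    | zero => simp
    | add x y hx hy => simp only [map_add, hx, hy]
    | tmul r b =>
      rw [SemiBialgHom.extendSemi_tmul, IsScalarTower.algebraMap_apply R L (L ⊗[A] B)]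
      simp [jB, SemiBialgHom.baseChange, Algebra.TensorProduct.algebraMap_apply]
  let F : SemiBialgHom A L C (L ⊗[A] B) := (SemiBialgHom.ofBialgHom φ').comp (SemiBialgHom.baseChange A L C)
  have hF : ∀ c, F.toAlgHom c = f c := fun c => rfl
  let Ψ : SemiBialgHom A R C (R ⊗[A] B) :=
    { toAlgHom := ψ
      counit_comp := fun c => by
        refine Subtype.val_injective ((E.counit_comp (ψ c)).symm.trans ?_)
        rw [hE, hψ, ← hF, F.counit_comp]
        rfl
      comul_comp := fun c => by
        have hinj := sq_injective (A := A) (B := B) (R := R) (L := L) Subtype.val_injective E.toAlgHom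
          fun r b => by rw [hE]; rfl
        refine hinj ((E.comul_comp (ψ c)).symm.trans ?_)
        rw [hE, hψ, ← hF, F.comul_comp]
        generalize Coalgebra.comul (R := A) c = w
        induction w using TensorProduct.induction_on with
        | zero => simp
        | add x y hx hy => simp only [map_add, hx, hy]
        | tmul x y => simp only [sq_tmul, hE]; rw [hF, hF, hψ, hψ] }
  -- unramified closed fibre
  have hgen : ∀ g ∈ t, ∀ b, (coord s R b (ψ g) : L) = coord s L b (f g) := fun g _ b => by
    rw [← hψ g]; exact (coord_natural s R.val b (ψ g)).symm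
  have hΩ : ((maximalIdeal A).map (algebraMap A R)) • (⊤ : Submodule R Ω[R⁄A]) = ⊤ := by
    refine smul_kaehler_eq_top (maximalIdeal A) ?_
    intro W _ _ J hW hJ f₁ f₂ hf
    have e := bialgHom_ext_nil (I := J) ⟨2, by rw [hJ, Ideal.zero_eq_bot]⟩ (isMultType_of_ker_le hs W hW)
      (isMultType_baseChange W hB) (pushHom f₁ Ψ.extendBialg) (pushHom f₂ Ψ.extendBialg) fun z => by
        induction z using TensorProduct.induction_on with
        | zero => simp
        | add x y hx hy => simp only [map_add]; rw [add_sub_add_comm]; exact add_mem hx hy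
        | tmul w c =>
          rw [pushHom_tmul, pushHom_tmul, ← smul_sub]
          refine Submodule.smul_mem _ _ ?_
          generalize Ψ.extendBialg (1 ⊗ₜ c) = y
          induction y using TensorProduct.induction_on with
          | zero => simp
          | add x y hx hy => simp only [map_add]; rw [add_sub_add_comm]; exact add_mem hx hy
          | tmul r b =>
            simp only [Algebra.TensorProduct.map_tmul, AlgHom.id_apply]
            rw [← TensorProduct.sub_tmul,
              show ((f₁ r - f₂ r) ⊗ₜ[A] b : W ⊗[A] B) = (f₁ r - f₂ r) • ((1 : W) ⊗ₜ b) by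
                rw [TensorProduct.smul_tmul', smul_eq_mul, mul_one]]
            exact Submodule.smul_mem_smul (hf r) Submodule.mem_top
    refine AlgHom.ext fun r => ?_
    have hle : R ≤ (AlgHom.equalizer f₁ f₂).map R.val := by
      refine Algebra.adjoin_le fun x hx => ?_
      simp only [G, Finset.coe_biUnion, Set.mem_iUnion, Finset.coe_image, Set.mem_image] at hx
      obtain ⟨g, hg, b, hb, rfl⟩ := hx
      refine ⟨coord s R b (ψ g), ?_, hgen g hg b⟩
      show f₁ _ = f₂ _
      have e1 := congrArg (fun φ : W ⊗[A] C →ₐc[W] W ⊗[A] B => coord s W b (φ (1 ⊗ₜ g))) e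
      simp only [pushHom_one_tmul, SemiBialgHom.extendBialg_apply, SemiBialgHom.extend_tmul, one_smul] at e1
      rwa [coord_natural, coord_natural] at e1
    obtain ⟨r', hr', e'⟩ := hle r.2
    rwa [show r' = r from Subtype.ext e'] at hr'
  -- conclusion
  have hR : R ≤ (Algebra.ofId A L).range := fun r hr => by
    obtain ⟨a, ha⟩ := range_le_of_unramified_fibre hres R.val hΩ ⟨r, hr⟩
    exact ⟨a, ha⟩
  let bA : R →ₐ[A] A := (AlgEquiv.ofInjective (Algebra.ofId A L)
    (FaithfulSMul.algebraMap_injective A L)).symm.toAlgHom.comp (Subalgebra.inclusion hR)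
  have hbA : ∀ r : R, algebraMap A L (bA r) = r := fun r =>
    congrArg Subtype.val ((AlgEquiv.ofInjective (Algebra.ofId A L)
      (FaithfulSMul.algebraMap_injective A L)).apply_symm_apply ⟨r.1, hR r.2⟩)
  let φ₀ : C →ₐ[A] B := ((Algebra.TensorProduct.lid A B).toAlgHom.comp (mA B bA)).comp ψ
  have key : ∀ z : R ⊗[A] B, (1 : L) ⊗ₜ[A] (Algebra.TensorProduct.lid A B (mA B bA z)) = jB z := fun z => by
    induction z using TensorProduct.induction_on with
    | zero => simp
    | add x y hx hy => simp only [map_add, TensorProduct.tmul_add, hx, hy]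
    | tmul r b =>
      simp only [jB, Algebra.TensorProduct.map_tmul, AlgHom.id_apply, Algebra.TensorProduct.lid_tmul]
      rw [TensorProduct.tmul_smul, TensorProduct.smul_tmul', Algebra.smul_def, hbA, mul_one]
      rfl
  have hkey : ∀ c, (1 : L) ⊗ₜ[A] φ₀ c = f c := fun c => (key (ψ c)).trans (hψ c)
  have hinjB : Function.Injective (fun b : B => (1 : L) ⊗ₜ[A] b) :=
    Module.FaithfullyFlat.tensorProduct_mk_injective (A := A) (B := L) B
  refine ⟨BialgHom.ofAlgHom φ₀ (AlgHom.ext fun c => FaithfulSMul.algebraMap_injective A L ?_)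
    (AlgHom.ext fun c => ?_), fun c => (hkey c).symm⟩
  · have h2 := F.counit_comp c
    rw [hF, ← hkey] at h2
    simpa [Algebra.algebraMap_eq_smul_one] using h2
  · have : Module.Flat A B := inferInstance
    let j2 : B ⊗[A] B → (L ⊗[A] B) ⊗[L] (L ⊗[A] B) := fun w =>
      AlgebraTensorModule.distribBaseChange A L B B ((1 : L) ⊗ₜ w)
    have hj2 : Function.Injective j2 := (AlgebraTensorModule.distribBaseChange A L B B).injective.comp
      (Module.FaithfullyFlat.tensorProduct_mk_injective (A := A) (B := L) (B ⊗[A] B))
    have hj : ∀ w, j2 w = sq L (SemiBialgHom.baseChange A L B).toAlgHom w := fun w => by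
      induction w using TensorProduct.induction_on with
      | zero => simp [j2]
      | add x y hx hy => rw [map_add, ← hx, ← hy]; simp only [j2, TensorProduct.tmul_add, map_add]
      | tmul x y =>
        rw [sq_tmul]
        show AlgebraTensorModule.distribBaseChange A L B B ((1 : L) ⊗ₜ (x ⊗ₜ y)) = _
        rw [← _root_.one_mul (1 : L), distrib_tmul_tmul]
        rfl
    apply hj2
    simp only [AlgHom.comp_apply, Bialgebra.comulAlgHom_apply]
    rw [hj, hj, ← (SemiBialgHom.baseChange A L B).comul_comp (φ₀ c)]
    show _ = Coalgebra.comul (R := L) ((1 : L) ⊗ₜ[A] φ₀ c)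
    rw [hkey, ← hF, F.comul_comp]
    generalize Coalgebra.comul (R := A) c = w
    induction w using TensorProduct.induction_on with
    | zero => simp
    | add x y hx hy => simp only [map_add, hx, hy]
    | tmul x y =>
      simp only [sq_tmul, hF, ← hkey, Algebra.TensorProduct.map_tmul]
      rfl

end Groth.Agent.CplHom
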